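import Mathlib
import Cfsg.Agent.Lib.Helper19.SPU.Defs

/-!
# Project SPU (S2316), package [LAG]

`cT (J k) * |GL_k| = cI (J k) * nilCount F k`: double count of the pairs `(P, X)` with `P` an
isometry of `J` and `X P = P diag(N, -1 - Nᵀ)`, `N` nilpotent.
-/

set_option autoImplicit false

namespace Cfsg.Agent.Lib.Helper52.SPU

open Matrix Cfsg.Agent.Lib.Helper19.SPU

universe u

section Aux

variable {F : Type u} [Field F] {k : ℕ}

/-- the inverse of an isometry of `J`. -/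
def isoInv (P : Matrix (Fin k ⊕ Fin k) (Fin k ⊕ Fin k) F) :
    Matrix (Fin k ⊕ Fin k) (Fin k ⊕ Fin k) F :=
  -(Matrix.J (Fin k) F) * Pᵀ * Matrix.J (Fin k) F

theorem isoInv_mul {P : Matrix (Fin k ⊕ Fin k) (Fin k ⊕ Fin k) F}
    (hP : Isom (Matrix.J (Fin k) F) P) : isoInv P * P = 1 := by
  unfold isoInv
  have h : Pᵀ * Matrix.J (Fin k) F * P = Matrix.J (Fin k) F := hP
  rw [Matrix.mul_assoc, Matrix.mul_assoc, ← Matrix.mul_assoc Pᵀ, h, Matrix.neg_mul,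
    Matrix.J_squared, neg_neg]

theorem mul_isoInv {P : Matrix (Fin k ⊕ Fin k) (Fin k ⊕ Fin k) F}
    (hP : Isom (Matrix.J (Fin k) F) P) : P * isoInv P = 1 :=
  mul_eq_one_comm.mp (isoInv_mul hP)

/-- `diag(N, -1 - Nᵀ)`. -/
def DN (N : Matrix (Fin k) (Fin k) F) : Matrix (Fin k ⊕ Fin k) (Fin k ⊕ Fin k) F :=
  Matrix.fromBlocks N 0 0 (-1 - Nᵀ)

theorem affA_DN (N : Matrix (Fin k) (Fin k) F) : AffA (Matrix.J (Fin k) F) (DN N) := by
  unfold AffA DN Matrix.J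
  rw [Matrix.fromBlocks_transpose, Matrix.fromBlocks_multiply, Matrix.fromBlocks_multiply,
    Matrix.fromBlocks_add, Matrix.fromBlocks_add, ← Matrix.fromBlocks_zero, Matrix.fromBlocks_inj]
  refine ⟨?_, ?_, ?_, ?_⟩
  · simp
  · simp
  · simp
  · simp

theorem isom_mul {P P' : Matrix (Fin k ⊕ Fin k) (Fin k ⊕ Fin k) F}
    (h : Isom (Matrix.J (Fin k) F) P) (h' : Isom (Matrix.J (Fin k) F) P') :
    Isom (Matrix.J (Fin k) F) (P * P') := by
  have h1 : Pᵀ * Matrix.J (Fin k) F * P = Matrix.J (Fin k) F := h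
  have h2 : P'ᵀ * Matrix.J (Fin k) F * P' = Matrix.J (Fin k) F := h'
  show (P * P')ᵀ * Matrix.J (Fin k) F * (P * P') = Matrix.J (Fin k) F
  have e : (P * P')ᵀ * Matrix.J (Fin k) F * (P * P') =
      P'ᵀ * (Pᵀ * Matrix.J (Fin k) F * P) * P' := by
    rw [Matrix.transpose_mul]; simp only [Matrix.mul_assoc]
  rw [e, h1, h2]

theorem isom_inv (P : GL (Fin k ⊕ Fin k) F) (h : Isom (Matrix.J (Fin k) F) P.val) :
    Isom (Matrix.J (Fin k) F) (P⁻¹).val := by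
  have h1 : P.valᵀ * Matrix.J (Fin k) F * P.val = Matrix.J (Fin k) F := h
  show (P⁻¹).valᵀ * Matrix.J (Fin k) F * (P⁻¹).val = Matrix.J (Fin k) F
  have e : (P⁻¹).valᵀ * (P.valᵀ * Matrix.J (Fin k) F * P.val) * (P⁻¹).val =
      (P.val * (P⁻¹).val)ᵀ * Matrix.J (Fin k) F * (P.val * (P⁻¹).val) := by
    rw [Matrix.transpose_mul]; simp only [Matrix.mul_assoc]
  rw [h1] at e
  rw [e, Units.mul_inv, Matrix.transpose_one, Matrix.one_mul, Matrix.mul_one]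

/-- `diag(Q, Q⁻ᵀ)`. -/
def dQ (Q : GL (Fin k) F) : Matrix (Fin k ⊕ Fin k) (Fin k ⊕ Fin k) F :=
  Matrix.fromBlocks Q.val 0 0 ((Q⁻¹).val)ᵀ

theorem tinv_mul (Q : GL (Fin k) F) : ((Q⁻¹).val)ᵀ * Q.valᵀ = 1 := by
  rw [← Matrix.transpose_mul, Units.mul_inv, Matrix.transpose_one]

theorem t_mul_tinv (Q : GL (Fin k) F) : Q.valᵀ * ((Q⁻¹).val)ᵀ = 1 := by
  rw [← Matrix.transpose_mul, Units.inv_mul, Matrix.transpose_one]

theorem isom_dQ (Q : GL (Fin k) F) : Isom (Matrix.J (Fin k) F) (dQ Q) := by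
  unfold Isom dQ Matrix.J
  rw [Matrix.fromBlocks_transpose, Matrix.fromBlocks_multiply, Matrix.fromBlocks_multiply,
    Matrix.fromBlocks_inj]
  refine ⟨?_, ?_, ?_, ?_⟩
  · simp
  · simp only [Matrix.mul_zero, Matrix.zero_mul, Matrix.transpose_zero, add_zero, zero_add,
      Matrix.mul_neg, Matrix.mul_one, Matrix.neg_mul]
    rw [t_mul_tinv]
  · simp
  · simp

theorem DN_dQ (N : Matrix (Fin k) (Fin k) F) (Q : GL (Fin k) F) :
    DN N * dQ Q = dQ Q * DN ((Q⁻¹).val * N * Q.val) := by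
  unfold DN dQ
  rw [Matrix.fromBlocks_multiply, Matrix.fromBlocks_multiply, Matrix.fromBlocks_inj]
  refine ⟨?_, ?_, ?_, ?_⟩
  · simp only [Matrix.mul_zero, add_zero]
    rw [← Matrix.mul_assoc, ← Matrix.mul_assoc, Units.mul_inv, Matrix.one_mul]
  · simp
  · simp
  · simp only [Matrix.mul_zero, zero_add]
    rw [Matrix.transpose_mul, Matrix.transpose_mul, Matrix.mul_sub, Matrix.sub_mul,
      ← Matrix.mul_assoc, ← Matrix.mul_assoc, tinv_mul, Matrix.one_mul]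
    simp

theorem dQ_injective : Function.Injective (dQ : GL (Fin k) F → _) := by
  intro Q Q' h
  unfold dQ at h
  rw [Matrix.fromBlocks_inj] at h
  exact Units.ext h.1

theorem isUnit_neg_one_sub_transpose {N : Matrix (Fin k) (Fin k) F} (hN : IsNilpotent N) :
    IsUnit (-1 - Nᵀ) := by
  have h1 : IsNilpotent Nᵀ := by
    obtain ⟨j, hj⟩ := hN
    exact ⟨j, by rw [← Matrix.transpose_pow, hj, Matrix.transpose_zero]⟩
  have h2 : IsUnit (1 + Nᵀ) := h1.isUnit_one_add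
  have e : -1 - Nᵀ = -(1 + Nᵀ) := by abel
  rw [e]
  exact h2.neg

theorem nilp_mul_add_one {n : Type} [Fintype n] [DecidableEq n] {N : Matrix n n F}
    (hN : IsNilpotent N) : IsNilpotent (N * N + N) := by
  obtain ⟨j, hj⟩ := hN
  refine ⟨j, ?_⟩
  have e : N * N + N = N * (N + 1) := by rw [Matrix.mul_add, Matrix.mul_one]
  have hc : Commute N (N + 1) := (Commute.refl N).add_right (Commute.one_right N)
  rw [e, hc.mul_pow, hj, Matrix.zero_mul]

theorem nilp_DN_sq {N : Matrix (Fin k) (Fin k) F} (hN : IsNilpotent N) :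
    IsNilpotent (DN N * DN N + DN N) := by
  have hNt : IsNilpotent Nᵀ := by
    obtain ⟨j, hj⟩ := hN
    exact ⟨j, by rw [← Matrix.transpose_pow, hj, Matrix.transpose_zero]⟩
  have e : DN N * DN N + DN N = Matrix.fromBlocks (N * N + N) 0 0 (Nᵀ * Nᵀ + Nᵀ) := by
    unfold DN
    rw [Matrix.fromBlocks_multiply, Matrix.fromBlocks_add, Matrix.fromBlocks_inj]
    refine ⟨?_, ?_, ?_, ?_⟩
    · simp
    · simp
    · simp
    · simp only [Matrix.mul_zero, zero_add]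
      noncomm_ring
  obtain ⟨j₁, hj₁⟩ := nilp_mul_add_one hN
  obtain ⟨j₂, hj₂⟩ := nilp_mul_add_one hNt
  refine ⟨j₁ + j₂, ?_⟩
  rw [e, Helper40.fromBlocks_diag_pow, pow_add, hj₁, Matrix.zero_mul, pow_add, hj₂, Matrix.mul_zero,
    Matrix.fromBlocks_zero]

theorem nilp_of_semiconj {n : Type} [Fintype n] [DecidableEq n] {M M' P Pi : Matrix n n F}
    (h : M * P = P * M') (hPPi : P * Pi = 1) (hM' : IsNilpotent M') : IsNilpotent M := by
  obtain ⟨j, hj⟩ := hM'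
  refine ⟨j, ?_⟩
  have e : ∀ i : ℕ, M ^ i * P = P * M' ^ i := by
    intro i
    induction i with
    | zero => simp
    | succ i ih =>
      rw [pow_succ, Matrix.mul_assoc, h, ← Matrix.mul_assoc, ih, Matrix.mul_assoc, ← pow_succ]
  have h1 := e j
  rw [hj, Matrix.mul_zero] at h1
  have h2 : M ^ j * P * Pi = 0 := by rw [h1, Matrix.zero_mul]
  rwa [Matrix.mul_assoc, hPPi, Matrix.mul_one] at h2

theorem affA_of_semiconj {P X : Matrix (Fin k ⊕ Fin k) (Fin k ⊕ Fin k) F}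
    (hP : Isom (Matrix.J (Fin k) F) P) (N : Matrix (Fin k) (Fin k) F) (h : X * P = P * DN N) :
    AffA (Matrix.J (Fin k) F) X := by
  have hJ : Pᵀ * Matrix.J (Fin k) F * P = Matrix.J (Fin k) F := hP
  have hD : (DN N)ᵀ * Matrix.J (Fin k) F + Matrix.J (Fin k) F * DN N + Matrix.J (Fin k) F = 0 :=
    affA_DN N
  have t1 : Pᵀ * Xᵀ = (DN N)ᵀ * Pᵀ := by
    rw [← Matrix.transpose_mul, h, Matrix.transpose_mul]
  have e1 : Pᵀ * (Xᵀ * Matrix.J (Fin k) F + Matrix.J (Fin k) F * X + Matrix.J (Fin k) F) * P = 0 := by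
    calc Pᵀ * (Xᵀ * Matrix.J (Fin k) F + Matrix.J (Fin k) F * X + Matrix.J (Fin k) F) * P
        = (Pᵀ * Xᵀ) * Matrix.J (Fin k) F * P + Pᵀ * Matrix.J (Fin k) F * (X * P)
          + Pᵀ * Matrix.J (Fin k) F * P := by
          simp only [Matrix.mul_add, Matrix.add_mul, Matrix.mul_assoc]
      _ = (DN N)ᵀ * (Pᵀ * Matrix.J (Fin k) F * P) + (Pᵀ * Matrix.J (Fin k) F * P) * DN N
          + Pᵀ * Matrix.J (Fin k) F * P := by
          rw [t1, h]; simp only [Matrix.mul_assoc]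
      _ = 0 := by rw [hJ, hD]
  have t2 : (isoInv P)ᵀ * Pᵀ = 1 := by
    rw [← Matrix.transpose_mul, mul_isoInv hP, Matrix.transpose_one]
  have e2 : (isoInv P)ᵀ *
      (Pᵀ * (Xᵀ * Matrix.J (Fin k) F + Matrix.J (Fin k) F * X + Matrix.J (Fin k) F) * P) *
      isoInv P = Xᵀ * Matrix.J (Fin k) F + Matrix.J (Fin k) F * X + Matrix.J (Fin k) F := by
    calc (isoInv P)ᵀ *
          (Pᵀ * (Xᵀ * Matrix.J (Fin k) F + Matrix.J (Fin k) F * X + Matrix.J (Fin k) F) * P) *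
          isoInv P
        = ((isoInv P)ᵀ * Pᵀ) *
          (Xᵀ * Matrix.J (Fin k) F + Matrix.J (Fin k) F * X + Matrix.J (Fin k) F) *
          (P * isoInv P) := by simp only [Matrix.mul_assoc]
      _ = _ := by rw [t2, mul_isoInv hP, Matrix.one_mul, Matrix.mul_one]
  rw [e1, Matrix.mul_zero, Matrix.zero_mul] at e2
  exact e2.symm

/-- a block diagonal isometry of `J` is `diag(Q, Q⁻ᵀ)`. -/
theorem block_isom {Q₁ Q₂ : GL (Fin k) F}
    (h : Isom (Matrix.J (Fin k) F) (Matrix.fromBlocks Q₁.val 0 0 Q₂.val)) :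
    Matrix.fromBlocks Q₁.val 0 0 Q₂.val = dQ Q₁ := by
  unfold Isom Matrix.J at h
  rw [Matrix.fromBlocks_transpose, Matrix.fromBlocks_multiply, Matrix.fromBlocks_multiply,
    Matrix.fromBlocks_inj] at h
  obtain ⟨-, h12, -, -⟩ := h
  simp only [Matrix.mul_zero, Matrix.transpose_zero, add_zero, zero_add,
    Matrix.mul_neg, Matrix.mul_one, Matrix.neg_mul, neg_inj] at h12
  have e : Q₂.val = ((Q₁⁻¹).val)ᵀ := by
    calc Q₂.val = (((Q₁⁻¹).val)ᵀ * Q₁.valᵀ) * Q₂.val := by rw [tinv_mul, Matrix.one_mul]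
      _ = ((Q₁⁻¹).val)ᵀ := by rw [Matrix.mul_assoc, h12, Matrix.mul_one]
  unfold dQ
  rw [e]

end Aux

/-- **[LAG]** from [LAGDEC]. -/
theorem pkgLag_of (hLagDec : PkgLagDec.{u}) : PkgLag.{u} := by
  intro F _ _ k
  classical
  let S : Type u := {x : Matrix (Fin k ⊕ Fin k) (Fin k ⊕ Fin k) F ×
      Matrix (Fin k ⊕ Fin k) (Fin k ⊕ Fin k) F //
    Isom (Matrix.J (Fin k) F) x.1 ∧
      ∃ N : Matrix (Fin k) (Fin k) F, IsNilpotent N ∧ x.2 * x.1 = x.1 * DN N}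
  -- first parametrisation
  let f₁ : {g : Matrix (Fin k ⊕ Fin k) (Fin k ⊕ Fin k) F // Isom (Matrix.J (Fin k) F) g} ×
      {N : Matrix (Fin k) (Fin k) F // IsNilpotent N} → S :=
    fun t => ⟨(t.1.1, t.1.1 * DN t.2.1 * isoInv t.1.1), t.1.2, t.2.1, t.2.2, by
      show t.1.1 * DN t.2.1 * isoInv t.1.1 * t.1.1 = t.1.1 * DN t.2.1
      rw [Matrix.mul_assoc, isoInv_mul t.1.2, Matrix.mul_one]⟩
  have hf₁ : Function.Bijective f₁ := by
    constructor
    · rintro ⟨⟨P, hP⟩, ⟨N, hN⟩⟩ ⟨⟨P', hP'⟩, ⟨N', hN'⟩⟩ hEq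
      have h1 := congrArg (fun x : S => x.1.1) hEq
      have h2 := congrArg (fun x : S => x.1.2) hEq
      simp only [f₁] at h1 h2
      subst h1
      have e : ∀ M : Matrix (Fin k ⊕ Fin k) (Fin k ⊕ Fin k) F,
          isoInv P * (P * M * isoInv P) * P = M := by
        intro M
        rw [Matrix.mul_assoc, Matrix.mul_assoc, isoInv_mul hP, Matrix.mul_one, ← Matrix.mul_assoc,
          isoInv_mul hP, Matrix.one_mul]
      have h3 : DN N = DN N' := by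
        have h4 := congrArg (fun Z => isoInv P * Z * P) h2
        beta_reduce at h4
        rwa [e, e] at h4
      unfold DN at h3
      rw [Matrix.fromBlocks_inj] at h3
      obtain ⟨hNN, -, -, -⟩ := h3
      subst hNN
      rfl
    · rintro ⟨⟨P, X⟩, hP, N, hN, h⟩
      refine ⟨(⟨P, hP⟩, ⟨N, hN⟩), ?_⟩
      apply Subtype.ext
      simp only [f₁]
      refine Prod.ext rfl ?_
      simp only
      simp only at h
      rw [← h, Matrix.mul_assoc, mul_isoInv hP, Matrix.mul_one]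
  -- second parametrisation
  have hex : ∀ X : {X : Matrix (Fin k ⊕ Fin k) (Fin k ⊕ Fin k) F //
      AffA (Matrix.J (Fin k) F) X ∧ IsNilpotent (X * X + X)},
      ∃ (P : GL (Fin k ⊕ Fin k) F) (N : Matrix (Fin k) (Fin k) F),
        Isom (Matrix.J (Fin k) F) P.val ∧ IsNilpotent N ∧ X.1 * P.val = P.val * DN N :=
    fun X => hLagDec F k X.1 X.2.1 X.2.2
  choose P₀ N₀ hI₀ hN₀ hPD using hex
  let f₂ : {X : Matrix (Fin k ⊕ Fin k) (Fin k ⊕ Fin k) F //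
      AffA (Matrix.J (Fin k) F) X ∧ IsNilpotent (X * X + X)} × GL (Fin k) F → S :=
    fun t => ⟨((P₀ t.1).val * dQ t.2, t.1.1), isom_mul (hI₀ t.1) (isom_dQ t.2),
      (t.2⁻¹).val * N₀ t.1 * t.2.val, by
        obtain ⟨j, hj⟩ := hN₀ t.1
        exact ⟨j, by rw [Units.conj_pow', hj, Matrix.mul_zero, Matrix.zero_mul]⟩, by
        show t.1.1 * ((P₀ t.1).val * dQ t.2) =
          (P₀ t.1).val * dQ t.2 * DN ((t.2⁻¹).val * N₀ t.1 * t.2.val)
        rw [← Matrix.mul_assoc, hPD t.1, Matrix.mul_assoc, DN_dQ]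
        exact (Matrix.mul_assoc _ _ _).symm⟩
  have hf₂ : Function.Bijective f₂ := by
    constructor
    · rintro ⟨X, Q⟩ ⟨X', Q'⟩ hEq
      have h1 := congrArg (fun x : S => x.1.1) hEq
      have h2 := congrArg (fun x : S => x.1.2) hEq
      simp only [f₂] at h1 h2
      have hX : X = X' := Subtype.ext h2
      subst hX
      have h3 : dQ Q = dQ Q' := by
        have h4 := congrArg (fun Z => ((P₀ X)⁻¹).val * Z) h1
        beta_reduce at h4
        rwa [← Matrix.mul_assoc, ← Matrix.mul_assoc, Units.inv_mul, Matrix.one_mul,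
          Matrix.one_mul] at h4
      rw [dQ_injective h3]
    · rintro ⟨⟨P, X⟩, hP, N, hN, h⟩
      replace h : X * P = P * DN N := h
      replace hP : Isom (Matrix.J (Fin k) F) P := hP
      have hX : AffA (Matrix.J (Fin k) F) X ∧ IsNilpotent (X * X + X) := by
        refine ⟨affA_of_semiconj hP N h, ?_⟩
        refine nilp_of_semiconj (M' := DN N * DN N + DN N) (P := P) (Pi := isoInv P) ?_
          (mul_isoInv hP) (nilp_DN_sq hN)
        rw [Matrix.add_mul, Matrix.mul_assoc, h, ← Matrix.mul_assoc, h, Matrix.mul_add,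
          Matrix.mul_assoc]
      obtain ⟨Pu, hPu⟩ : ∃ Pu : GL (Fin k ⊕ Fin k) F, Pu.val = P :=
        ⟨⟨P, isoInv P, mul_isoInv hP, isoInv_mul hP⟩, rfl⟩
      have h0 : X * (P₀ ⟨X, hX⟩).val = (P₀ ⟨X, hX⟩).val * DN (N₀ ⟨X, hX⟩) := hPD ⟨X, hX⟩
      have h1 : DN (N₀ ⟨X, hX⟩) * ((P₀ ⟨X, hX⟩)⁻¹).val = ((P₀ ⟨X, hX⟩)⁻¹).val * X := by
        have e1 : ((P₀ ⟨X, hX⟩)⁻¹).val * (X * (P₀ ⟨X, hX⟩).val) * ((P₀ ⟨X, hX⟩)⁻¹).val =
            ((P₀ ⟨X, hX⟩)⁻¹).val * X := by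
          rw [Matrix.mul_assoc, Matrix.mul_assoc, Units.mul_inv, Matrix.mul_one]
        have e2 : ((P₀ ⟨X, hX⟩)⁻¹).val * ((P₀ ⟨X, hX⟩).val * DN (N₀ ⟨X, hX⟩)) *
            ((P₀ ⟨X, hX⟩)⁻¹).val = DN (N₀ ⟨X, hX⟩) * ((P₀ ⟨X, hX⟩)⁻¹).val := by
          rw [← Matrix.mul_assoc, Units.inv_mul, Matrix.one_mul]
        rw [← e1, ← e2, h0]
      have hrig := Helper40.fitting_rigid (N₀ ⟨X, hX⟩) N (-1 - (N₀ ⟨X, hX⟩)ᵀ) (-1 - Nᵀ)
        (hN₀ ⟨X, hX⟩) hN (isUnit_neg_one_sub_transpose (hN₀ ⟨X, hX⟩))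
        (isUnit_neg_one_sub_transpose hN) ((P₀ ⟨X, hX⟩)⁻¹ * Pu) (by
          show DN (N₀ ⟨X, hX⟩) * ((P₀ ⟨X, hX⟩)⁻¹ * Pu).val =
            ((P₀ ⟨X, hX⟩)⁻¹ * Pu).val * DN N
          rw [Units.val_mul, hPu, ← Matrix.mul_assoc, h1, Matrix.mul_assoc, h, Matrix.mul_assoc])
      obtain ⟨Q₁, Q₂, hQ⟩ := hrig
      have hQiso : Isom (Matrix.J (Fin k) F) (Matrix.fromBlocks Q₁.val 0 0 Q₂.val) := by
        rw [← hQ, Units.val_mul, hPu]
        exact isom_mul (isom_inv (P₀ ⟨X, hX⟩) (hI₀ ⟨X, hX⟩)) hP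
      have hQd : ((P₀ ⟨X, hX⟩)⁻¹ * Pu).val = dQ Q₁ := by rw [hQ, block_isom hQiso]
      refine ⟨(⟨X, hX⟩, Q₁), ?_⟩
      apply Subtype.ext
      simp only [f₂]
      refine Prod.ext ?_ rfl
      simp only
      rw [← hQd, Units.val_mul, hPu, ← Matrix.mul_assoc, Units.mul_inv, Matrix.one_mul]
  have c1 := Nat.card_eq_of_bijective f₁ hf₁
  have c2 := Nat.card_eq_of_bijective f₂ hf₂
  rw [Nat.card_prod] at c1 c2
  unfold cT cI Helper40.nilCount
  rw [c1, c2]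

end Cfsg.Agent.Lib.Helper52.SPU
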